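import Groth.Agent.AbExt.Local
import Groth.Agent.PnSpec.Basic
import Groth.Agent.S15949

/-!
Smooth group schemes have no rational curves in their fibres.
-/

set_option autoImplicit false
set_option backward.isDefEq.respectTransparency false
set_option backward.isDefEq.respectTransparency.types false
set_option linter.style.haveILetI false

universe u

open CategoryTheory CategoryTheory.Limits AlgebraicGeometry MonoidalCategory CartesianMonoidalCategory MonObj
open scoped CategoryTheory.Obj

noncomputable section

namespace Groth.Agent.AbExt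

theorem noP1_of_grpObj {S : Scheme.{u}} (A : Over S) [GrpObj A] [Smooth A.hom] : NoP1 A.hom := by
  intro k _ φ s hφ
  let B : Over (Spec (CommRingCat.of k)) := (Over.pullback s).obj A
  letI : GrpObj B := Functor.grpObjObj (F := Over.pullback s)
  haveI : Smooth B.hom := MorphismProperty.pullback_snd (P := @Smooth) _ _ ‹_›
  obtain ⟨e, he⟩ := PnSpec.exists_iso 1 k
  let φ' : CohB1.ProjSpaceOver 1 (Spec (CommRingCat.of k)) ⟶ B.left :=
    pullback.lift (e.inv ≫ φ) (CohB1.ProjSpaceOver.toBase 1 (Spec (CommRingCat.of k))) (by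
      rw [Category.assoc, hφ, ← he, Category.assoc, Iso.inv_hom_id_assoc])
  obtain ⟨g, -, hg⟩ := S15949.result k B φ' (pullback.lift_snd _ _ _)
  have h : φ = CohB1.ProjSpace.toSpec 1 k ≫ g ≫ pullback.fst A.hom s := by
    rw [← he, Category.assoc, ← Category.assoc _ g, ← hg]
    exact ((congrArg (e.hom ≫ ·) (pullback.lift_fst (e.inv ≫ φ) _ _)).trans (e.hom_inv_id_assoc φ)).symm
  intro a b
  haveI : Subsingleton (Spec (CommRingCat.of k)) := inferInstanceAs (Subsingleton (PrimeSpectrum k))
  rw [h, Scheme.Hom.comp_apply, Scheme.Hom.comp_apply, Scheme.Hom.comp_apply, Scheme.Hom.comp_apply,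
    Subsingleton.elim (CohB1.ProjSpace.toSpec 1 k a) (CohB1.ProjSpace.toSpec 1 k b)]

end Groth.Agent.AbExt
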