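import Groth.Agent.AbExt.Local
import Groth.Agent.PnSpec.Basic
import Groth.Agent.AVLine.P1
import Groth.Agent.CurveP1.Basic
import Groth.Agent.WeilExt.Cor
import Groth.Agent.PtBlow.Birat
import Groth.Agent.S10829
import Groth.Agent.CycPB.BundleSmooth
import Groth.Agent.Horrocks.Dim
import Mathlib.RingTheory.Jacobson.Ring
import Mathlib.RingTheory.Nullstellensatz

/-!
A proper scheme over an algebraically closed field without rational curves has none over any extension field.
-/

set_option autoImplicit false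
set_option backward.isDefEq.respectTransparency false
set_option backward.isDefEq.respectTransparency.types false
set_option linter.style.haveILetI false
set_option maxHeartbeats 1000000
set_option synthInstance.maxHeartbeats 400000

universe u

open CategoryTheory CategoryTheory.Limits AlgebraicGeometry TopologicalSpace IsLocalRing
open scoped Polynomial

noncomputable section

namespace Groth.Agent.AbExt

variable (k : Type u) [Field k]

theorem exists_chart_p1 (A : Type u) [CommRing A] :
    ∃ c : Spec (CommRingCat.of A[X]) ⟶ CohB1.ProjSpace 1 A, IsOpenImmersion c ∧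
      c ≫ CohB1.ProjSpace.toSpec 1 A = Spec.map (CommRingCat.ofHom (Polynomial.C : A →+* A[X])) := by
  letI := Groth.Agent.AVLine.intAlg A
  obtain ⟨e, he⟩ := PnSpec.exists_iso 1 A
  refine ⟨AVLine.line A 0 ≫ e.inv, inferInstance, ?_⟩
  rw [Category.assoc, ← he, e.inv_hom_id_assoc, AVLine.line_toBase]

theorem eq_C_mul_of_coeff {A : Type u} [Field A] {f h : A[X]} (hh : h ≠ 0)
    (H : ∀ n, f.coeff n * h.leadingCoeff = f.coeff h.natDegree * h.coeff n) :
    f = Polynomial.C (f.coeff h.natDegree / h.leadingCoeff) * h := by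
  ext n
  have := Polynomial.leadingCoeff_ne_zero.2 hh
  rw [Polynomial.coeff_C_mul, div_mul_eq_mul_div, eq_div_iff this]
  exact H n

/-- Specialisation: an algebra of finite type mapped non-trivially to `K(t)` maps non-trivially to some
`k[t]` localised at a polynomial. -/
theorem exists_specialization [IsAlgClosed k] {K : Type u} [Field K] [Algebra k K] {B : Type u} [CommRing B]
    [Algebra k B] [Algebra.FiniteType k B] (ν : B →ₐ[k] FractionRing K[X]) (b₀ : B)
    (hb₀ : ν b₀ ∉ Set.range (algebraMap K (FractionRing K[X]))) :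
    ∃ (h : k[X]) (_ : h ≠ 0) (μ : B →ₐ[k] Localization.Away h) (b : B),
      μ b ∉ Set.range (algebraMap k (Localization.Away h)) := by
  classical
  obtain ⟨s, hs⟩ := Algebra.FiniteType.out (R := k) (A := B)
  let L := FractionRing K[X]
  let s' : Finset B := insert b₀ s
  have hs' : Algebra.adjoin k (s' : Set B) = ⊤ := top_le_iff.1 (hs ▸ Algebra.adjoin_mono (by simp [s']))
  obtain ⟨h, hh⟩ := IsLocalization.exist_integer_multiples (nonZeroDivisors K[X]) s' (fun b => ν b)
  choose! f hf using fun b hb => hh b hb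
  have hh0 : (h : K[X]) ≠ 0 := nonZeroDivisors.ne_zero h.2
  have halg : Function.Injective (algebraMap K[X] L) := IsFractionRing.injective _ _
  -- the non-constancy witness
  obtain ⟨n, hn⟩ : ∃ n, (f b₀).coeff n * (h : K[X]).leadingCoeff -
      (f b₀).coeff (h : K[X]).natDegree * (h : K[X]).coeff n ≠ 0 := by
    by_contra H
    push Not at H
    have e := eq_C_mul_of_coeff hh0 fun n => sub_eq_zero.1 (H n)
    refine hb₀ ⟨(f b₀).coeff (h : K[X]).natDegree / (h : K[X]).leadingCoeff, ?_⟩
    have := hf b₀ (Finset.mem_insert_self _ _)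
    rw [e, map_mul, Algebra.smul_def] at this
    refine mul_left_cancel₀ (fun h0 => hh0 (halg (h0.trans (map_zero _).symm))) (Eq.trans ?_ this)
    rw [mul_comm, IsScalarTower.algebraMap_apply K K[X] L, Polynomial.algebraMap_eq]
  let w := (f b₀).coeff n * (h : K[X]).leadingCoeff - (f b₀).coeff (h : K[X]).natDegree * (h : K[X]).coeff n
  -- the coefficient ring
  let cs : Finset K := (s'.biUnion fun b => (f b).coeffs) ∪ (h : K[X]).coeffs
  let A := Algebra.adjoin k (cs : Set K)
  have hmem : ∀ p : K[X], p.coeffs ⊆ cs → ∀ i, p.coeff i ∈ A := fun p hp i => by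
    by_cases hi : p.coeff i = 0
    · rw [hi]; exact zero_mem A
    · exact Algebra.subset_adjoin (hp (Polynomial.coeff_mem_coeffs hi))
  have hmemh := hmem h Finset.subset_union_right
  have hmemf : ∀ b ∈ s', ∀ i, (f b).coeff i ∈ A := fun b hb =>
    hmem _ ((Finset.subset_biUnion_of_mem (fun b => (f b).coeffs) hb).trans Finset.subset_union_left)
  have hlift : ∀ p : K[X], (∀ i, p.coeff i ∈ A) → ∃ q : A[X], q.map A.val.toRingHom = p := fun p hp =>
    (Polynomial.lifts_iff_coeff_lifts (f := A.val.toRingHom) p).2 fun i => ⟨⟨_, hp i⟩, rfl⟩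
  obtain ⟨hA, hhA⟩ := hlift h hmemh
  obtain ⟨fA, hfA⟩ := hlift (f b₀) (hmemf b₀ (Finset.mem_insert_self _ _))
  have hinj : Function.Injective (Polynomial.map A.val.toRingHom) :=
    Polynomial.map_injective _ Subtype.val_injective
  have hA0 : hA ≠ 0 := fun h0 => hh0 (by rw [← hhA, h0, Polynomial.map_zero])
  have hnat : hA.natDegree = (h : K[X]).natDegree := by
    rw [← hhA, Polynomial.natDegree_map_eq_of_injective Subtype.val_injective]
  let wA : A := fA.coeff n * hA.leadingCoeff - fA.coeff hA.natDegree * hA.coeff n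
  have hwA : (wA : K) = w := by
    simp only [wA, w, Polynomial.leadingCoeff, ← hnat]
    rw [← hfA, ← hhA, Polynomial.coeff_map, Polynomial.coeff_map, Polynomial.coeff_map, Polynomial.coeff_map]
    rfl
  have he0 : hA.leadingCoeff * wA ≠ 0 := mul_ne_zero (Polynomial.leadingCoeff_ne_zero.2 hA0)
    fun h0 => hn (hwA.symm.trans (by rw [h0]; rfl))
  -- a rational point of the coefficient ring
  haveI : Algebra.FiniteType k A :=
    (Subalgebra.fg_iff_finiteType A).1 (Subalgebra.fg_adjoin_finset cs)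
  haveI : IsJacobsonRing A := isJacobsonRing_of_finiteType (A := k)
  obtain ⟨m, hm, hem⟩ : ∃ m : Ideal A, m.IsMaximal ∧ hA.leadingCoeff * wA ∉ m := by
    by_contra H
    push Not at H
    have : hA.leadingCoeff * wA ∈ (⊥ : Ideal A).jacobson := Ideal.mem_sInf.2 fun {J} hJ => H J hJ.2
    rw [IsJacobsonRing.out' (⊥ : Ideal A) Ideal.isPrime_bot.isRadical, Ideal.mem_bot] at this
    exact he0 this
  haveI := hm
  letI : Field (A ⧸ m) := Ideal.Quotient.field m
  haveI : Module.Finite k (A ⧸ m) := finite_of_finite_type_of_isJacobsonRing k (A ⧸ m)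
  let e : k ≃ₐ[k] A ⧸ m := AlgEquiv.ofBijective (Algebra.ofId k (A ⧸ m))
    IsAlgClosed.algebraMap_bijective_of_isIntegral
  let χ : A →ₐ[k] k := e.symm.toAlgHom.comp (Ideal.Quotient.mkₐ k m)
  have hχ : χ (hA.leadingCoeff * wA) ≠ 0 := fun h0 => hem (Ideal.Quotient.eq_zero_iff_mem.1
    (e.symm.injective (h0.trans (map_zero e.symm).symm)))
  rw [map_mul, mul_ne_zero_iff] at hχ
  let h₀ : k[X] := hA.map χ.toRingHom
  let f₀ : k[X] := fA.map χ.toRingHom
  have hh₀ : h₀ ≠ 0 := fun h0 => hχ.1 (by
    have := congrArg (fun p => Polynomial.coeff p hA.natDegree) h0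
    simp only [h₀, Polynomial.coeff_map, Polynomial.coeff_zero] at this
    exact this)
  -- the image of `B` lies in `A[t]` localised
  let ιA : A[X] →ₐ[k] L := (IsScalarTower.toAlgHom k K[X] L).comp (Polynomial.mapAlgHom A.val)
  have hιA : Function.Injective ιA := fun a b hab => hinj (halg hab)
  have hu : IsUnit (ιA hA) := by
    refine IsUnit.mk0 _ fun h0 => hA0 (hιA (h0.trans (map_zero ιA).symm))
  let Θ : Localization.Away hA →ₐ[k] L := IsLocalization.liftAlgHom (M := Submonoid.powers hA) (f := ιA)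
    fun y => by obtain ⟨j, hj⟩ := y.2; rw [← hj, map_pow]; exact hu.pow j
  have hΘ : ∀ a, Θ (algebraMap A[X] (Localization.Away hA) a) = ιA a := fun a => by
    simp [Θ, IsLocalization.liftAlgHom_apply, IsLocalization.lift_eq]
  have hΘinj : Function.Injective Θ := by
    refine (injective_iff_map_eq_zero Θ).2 fun z hz => ?_
    obtain ⟨⟨a, y⟩, hay⟩ := IsLocalization.surj (Submonoid.powers hA) z
    have h1 := congrArg Θ hay
    rw [map_mul, hz, zero_mul, hΘ] at h1
    have ha : a = 0 := hιA (h1.symm.trans (map_zero ιA).symm)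
    rw [ha, map_zero] at hay
    exact ((IsLocalization.map_units (Localization.Away hA) y).mul_left_eq_zero).1 hay
  have hval : ∀ (b : B), b ∈ s' → ∀ q : A[X], q.map A.val.toRingHom = f b →
      ∀ z : Localization.Away hA, z * algebraMap A[X] (Localization.Away hA) hA = algebraMap A[X] _ q → Θ z = ν b := by
    intro b hb q hq z hz
    have h1 := congrArg Θ hz
    rw [map_mul, hΘ, hΘ] at h1
    have h2 := hf b hb
    rw [Algebra.smul_def, mul_comm] at h2
    refine hu.mul_right_cancel (h1.trans ?_)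
    show algebraMap K[X] L (q.map A.val.toRingHom) = _ * algebraMap K[X] L (hA.map A.val.toRingHom)
    rw [hq, hhA]
    exact h2.symm ▸ rfl
  have hrange : ∀ b, ν b ∈ Θ.range := by
    suffices ν.range ≤ Θ.range from fun b => this ⟨b, rfl⟩
    rw [← Algebra.map_top, ← hs', AlgHom.map_adjoin]
    refine Algebra.adjoin_le ?_
    rintro _ ⟨b, hb, rfl⟩
    obtain ⟨q, hq⟩ := hlift (f b) (hmemf b hb)
    exact ⟨_, hval b hb q hq (IsLocalization.mk' (Localization.Away hA) q ⟨hA, Submonoid.mem_powers hA⟩)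
      (IsLocalization.mk'_spec _ _ _)⟩
  let ν' : B →ₐ[k] Localization.Away hA :=
    (AlgEquiv.ofInjective Θ hΘinj).symm.toAlgHom.comp (ν.codRestrict Θ.range hrange)
  have hν' : ∀ b, Θ (ν' b) = ν b := fun b =>
    congrArg Subtype.val ((AlgEquiv.ofInjective Θ hΘinj).apply_symm_apply (ν.codRestrict Θ.range hrange b))
  let χX : A[X] →ₐ[k] k[X] := Polynomial.mapAlgHom χ
  let Θ₀ : Localization.Away hA →ₐ[k] Localization.Away h₀ := IsLocalization.liftAlgHom (M := Submonoid.powers hA)
    (f := (IsScalarTower.toAlgHom k k[X] (Localization.Away h₀)).comp χX) fun y => by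
    obtain ⟨j, hj⟩ := y.2
    rw [← hj, map_pow]
    exact (IsLocalization.Away.algebraMap_isUnit h₀).pow j
  refine ⟨h₀, hh₀, Θ₀.comp ν', b₀, ?_⟩
  rintro ⟨c, hc⟩
  have hz : ν' b₀ * algebraMap A[X] _ hA = algebraMap A[X] _ fA := hΘinj (by
    rw [map_mul, hν', hΘ, hΘ]
    have h2 := hf b₀ (Finset.mem_insert_self _ _)
    rw [Algebra.smul_def, mul_comm] at h2
    show _ * algebraMap K[X] L (hA.map A.val.toRingHom) = algebraMap K[X] L (fA.map A.val.toRingHom)
    rw [hhA, hfA]
    exact h2.symm)
  have h3 := congrArg Θ₀ hz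
  have hΘ₀ : ∀ a, Θ₀ (algebraMap A[X] _ a) = algebraMap k[X] (Localization.Away h₀) (a.map χ.toRingHom) := fun a => by
    simp [Θ₀, χX, IsLocalization.liftAlgHom_apply, IsLocalization.lift_eq]
  rw [map_mul, hΘ₀, hΘ₀] at h3
  rw [show Θ₀ (ν' b₀) = algebraMap k (Localization.Away h₀) c from hc.symm,
    IsScalarTower.algebraMap_apply k k[X] (Localization.Away h₀), ← map_mul, Polynomial.algebraMap_eq] at h3
  have h4 : Polynomial.C c * h₀ = f₀ :=
    IsLocalization.injective (Localization.Away h₀) (M := Submonoid.powers h₀)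
      (powers_le_nonZeroDivisors_of_noZeroDivisors hh₀) h3
  refine hχ.2 ?_
  have hcf : ∀ i, χ (fA.coeff i) = c * χ (hA.coeff i) := fun i => by
    have := congrArg (fun p => Polynomial.coeff p i) h4
    simp only [Polynomial.coeff_C_mul, h₀, f₀, Polynomial.coeff_map] at this
    exact this.symm
  simp only [wA, map_sub, map_mul, Polynomial.leadingCoeff, hcf]
  ring

/-- Over an algebraically closed field, absence of rational curves passes to extension fields. -/
theorem noP1_of_noRationalCurve [IsAlgClosed k] {Y : Scheme.{u}} (pY : Y ⟶ Spec (CommRingCat.of k)) [IsProper pY]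
    (hnorat : ∀ g : CohB1.ProjSpace 1 k ⟶ Y, g ≫ pY = CohB1.ProjSpace.toSpec 1 k →
      ∃ y : Y, Set.range g.base ⊆ {y}) : NoP1 pY := by
  intro K _ φ s hφ
  haveI : IsIntegral (CohB1.ProjSpace 1 K) := Horrocks.isIntegral_projSpace
  obtain ⟨σ, hσ⟩ : ∃ σ, Spec.map σ = s := ⟨_, Spec.map_preimage _⟩
  letI : Algebra k K := σ.hom.toAlgebra
  obtain ⟨c, hc, hcS⟩ := exists_chart_p1 K
  haveI := hc
  let L := FractionRing K[X]
  let gen : Spec (CommRingCat.of L) ⟶ CohB1.ProjSpace 1 K := Spec.map (CommRingCat.ofHom (algebraMap K[X] L)) ≫ c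
  let η : CohB1.ProjSpace 1 K := genericPoint (CohB1.ProjSpace 1 K)
  have hgenpt : ∀ z, gen z = η := fun z => by
    haveI : Subsingleton (Spec (CommRingCat.of L)) := inferInstanceAs (Subsingleton (PrimeSpectrum L))
    show _ = genericPoint (CohB1.ProjSpace 1 K)
    rw [Scheme.Hom.comp_apply, ← genericPoint_eq_of_isOpenImmersion c, genericPoint_eq_bot_of_affine,
      Subsingleton.elim z (⊥ : PrimeSpectrum L)]
    congr 1
    refine PrimeSpectrum.ext ?_
    exact (RingHom.injective_iff_ker_eq_bot _).mp (IsFractionRing.injective K[X] L)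
  haveI : IsDominant gen := ⟨dense_iff_inter_open.mpr fun O hO hne => by
    obtain ⟨o, ho⟩ := hne
    exact ⟨η, (genericPoint_specializes o).mem_open hO ho, (⊥ : PrimeSpectrum L), hgenpt _⟩⟩
  obtain ⟨U, hU, hζU, -⟩ := exists_isAffineOpen_mem_and_subset (X := Y) (x := φ η) (U := ⊤) trivial
  let B := Γ(Y, U)
  obtain ⟨ν, hν⟩ : ∃ ν : B ⟶ CommRingCat.of L, Spec.map ν ≫ hU.fromSpec = gen ≫ φ := by
    let l := IsOpenImmersion.lift hU.fromSpec (gen ≫ φ) (by
      rintro _ ⟨z, rfl⟩
      rw [hU.range_fromSpec, Scheme.Hom.comp_apply, hgenpt]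
      exact hζU)
    exact ⟨Spec.preimage l, by rw [Spec.map_preimage]; exact IsOpenImmersion.lift_fac _ _ _⟩
  obtain ⟨α, hα⟩ : ∃ α, Spec.map α = hU.fromSpec ≫ pY := ⟨_, Spec.map_preimage _⟩
  letI : Algebra k B := α.hom.toAlgebra
  haveI : Algebra.FiniteType k B := by
    haveI : LocallyOfFiniteType (Spec.map α) := hα ▸ inferInstance
    exact RingHom.finiteType_algebraMap.mp ((HasRingHomProperty.Spec_iff (P := @LocallyOfFiniteType)).mp ‹_›)
  have hνk : ν.hom.comp α.hom = (algebraMap K L).comp σ.hom := by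
    have h1 : Spec.map (α ≫ ν) = Spec.map (σ ≫ CommRingCat.ofHom (algebraMap K L)) := by
      rw [Spec.map_comp, Spec.map_comp, hα, reassoc_of% hν, hφ, hσ]
      simp only [gen, Category.assoc, reassoc_of% hcS]
      rw [← Spec.map_comp_assoc, ← CommRingCat.ofHom_comp]
      rfl
    exact congrArg CommRingCat.Hom.hom (Spec.map_injective h1)
  let νA : B →ₐ[k] L := { ν.hom with commutes' := fun r => RingHom.congr_fun hνk r }
  by_cases hK : ∀ b, νA b ∈ Set.range (algebraMap K L)
  · -- constant at a rational point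
    choose ρ₀ hρ₀ using hK
    have hinjK : Function.Injective (algebraMap K L) := (algebraMap K L).injective
    let ρ : B →+* K :=
      { toFun := ρ₀
        map_one' := hinjK (by rw [hρ₀, map_one, map_one])
        map_mul' := fun a b => hinjK (by rw [hρ₀, map_mul, map_mul, hρ₀, hρ₀])
        map_zero' := hinjK (by rw [hρ₀, map_zero, map_zero])
        map_add' := fun a b => hinjK (by rw [hρ₀, map_add, map_add, hρ₀, hρ₀]) }
    let pt : Spec (CommRingCat.of K) ⟶ Y := Spec.map (CommRingCat.ofHom ρ) ≫ hU.fromSpec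
    have hpt : pt ≫ pY = s := by
      rw [Category.assoc, ← hα, ← Spec.map_comp, ← hσ]
      congr 1
      exact CommRingCat.hom_ext (RingHom.ext fun r => hinjK ((hρ₀ _).trans (RingHom.congr_fun hνk r)))
    have heq : φ = CohB1.ProjSpace.toSpec 1 K ≫ pt := by
      refine ext_of_isDominant_of_isSeparated pY (by rw [hφ, Category.assoc, hpt]) gen ?_
      rw [← hν]
      simp only [gen, pt, Category.assoc, reassoc_of% hcS]
      rw [← Spec.map_comp_assoc, ← Spec.map_comp_assoc]
      congr 2
      refine CommRingCat.hom_ext (RingHom.ext fun b => (hρ₀ b).symm.trans ?_)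
      rw [IsScalarTower.algebraMap_apply K K[X] L, Polynomial.algebraMap_eq]
      rfl
    intro a b
    haveI : Subsingleton (Spec (CommRingCat.of K)) := inferInstanceAs (Subsingleton (PrimeSpectrum K))
    rw [heq, Scheme.Hom.comp_apply, Scheme.Hom.comp_apply, Scheme.Hom.comp_apply, Scheme.Hom.comp_apply,
      Subsingleton.elim (CohB1.ProjSpace.toSpec 1 K a) (CohB1.ProjSpace.toSpec 1 K b)]
  · exfalso
    push Not at hK
    obtain ⟨b₀, hb₀⟩ := hK
    obtain ⟨h, hh, μ, b, hb⟩ := exists_specialization k νA b₀ hb₀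
    obtain ⟨ck, hck, hckS⟩ := exists_chart_p1 k
    haveI := hck
    haveI : IsIntegral (CohB1.ProjSpace 1 k) := Horrocks.isIntegral_projSpace
    haveI : IsDomain (Localization.Away h) :=
      IsLocalization.isDomain_localization (powers_le_nonZeroDivisors_of_noZeroDivisors hh)
    let a : Spec (CommRingCat.of (Localization.Away h)) ⟶ CohB1.ProjSpace 1 k :=
      Spec.map (CommRingCat.ofHom (algebraMap k[X] (Localization.Away h))) ≫ ck
    haveI : IsOpenImmersion (Spec.map (CommRingCat.ofHom (algebraMap k[X] (Localization.Away h)))) :=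
      IsOpenImmersion.of_isLocalization (R := k[X]) (S := Localization.Away h) h
    let O := a.opensRange
    let g₀ : O.toScheme ⟶ Y := a.isoOpensRange.inv ≫ Spec.map (CommRingCat.ofHom μ.toRingHom) ≫ hU.fromSpec
    have hμk : Spec.map (CommRingCat.ofHom μ.toRingHom) ≫ hU.fromSpec ≫ pY = a ≫ CohB1.ProjSpace.toSpec 1 k := by
      simp only [a, Category.assoc]
      rw [hckS, ← hα, ← Spec.map_comp, ← Spec.map_comp]
      congr 1
      refine CommRingCat.hom_ext (RingHom.ext fun r => (μ.commutes r).trans ?_)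
      rw [IsScalarTower.algebraMap_apply k k[X] (Localization.Away h), Polynomial.algebraMap_eq]
      rfl
    have hg₀ : g₀ ≫ pY = O.ι ≫ CohB1.ProjSpace.toSpec 1 k := by
      simp only [g₀, Category.assoc, hμk]
      rw [← Category.assoc, Scheme.Hom.isoOpensRange_inv_comp]
    haveI : Smooth (CohB1.ProjSpace.toSpec 1 k) := CycPB.smooth_toSpec 1 k
    haveI : IsLocallyNoetherian (CohB1.ProjSpace 1 k) :=
      LocallyOfFiniteType.isLocallyNoetherian (CohB1.ProjSpace.toSpec 1 k)
    have hreg := WeilExt.regular_of_smooth WeilExt.regular_spec (CohB1.ProjSpace.toSpec 1 k)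
    have hO : Dense (O : Set (CohB1.ProjSpace 1 k)) := O.2.dense ⟨_, (⊥ : PrimeSpectrum (Localization.Away h)), rfl⟩
    obtain ⟨W, hOW, g, hg, hgres, hW⟩ := RatExt.exists_hom_points pY (CohB1.ProjSpace.toSpec 1 k) O hO g₀ hg₀
      Set.univ (fun x _ => RatExt.domain_valuationRing_of_regular (hreg x)
        ((RegDual.ringKrullDim_stalk_le_topologicalKrullDim x).trans (le_of_eq (by rw [S10829.result k 1]; rfl))))
    obtain rfl : W = ⊤ := eq_top_iff.2 fun x _ => hW x trivial
    obtain ⟨y, hy⟩ := hnorat ((CohB1.ProjSpace 1 k).topIso.inv ≫ g) (by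
      rw [Category.assoc, hg, ← Scheme.topIso_hom, Iso.inv_hom_id_assoc])
    let G := (CohB1.ProjSpace 1 k).topIso.inv ≫ g
    have hG : a ≫ G = Spec.map (CommRingCat.ofHom μ.toRingHom) ≫ hU.fromSpec := by
      rw [← Scheme.Hom.isoOpensRange_hom_ι a, Category.assoc]
      have h5 : O.ι ≫ G = g₀ := by
        have h6 : O.ι ≫ (CohB1.ProjSpace 1 k).topIso.inv = (CohB1.ProjSpace 1 k).homOfLE hOW := by
          rw [← cancel_mono (⊤ : (CohB1.ProjSpace 1 k).Opens).ι, Category.assoc, Scheme.homOfLE_ι,
            ← Scheme.topIso_hom, Iso.inv_hom_id, Category.comp_id]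
        rw [← hgres, reassoc_of% h6]
      rw [h5]
      simp [g₀]
    haveI : IsProper (CohB1.ProjSpace.toSpec 1 k) := ProjMor.isProper_toSpec (n := 1) (R := k)
    haveI : IsProper (G ≫ pY) := by rw [Category.assoc, hg, ← Scheme.topIso_hom, Iso.inv_hom_id_assoc]; infer_instance
    haveI : IsProper G := IsProper.of_comp G pY
    have hyc : IsClosed ({y} : Set Y) := by
      have : ({y} : Set Y) = Set.range G := Set.Subset.antisymm
        (Set.singleton_subset_iff.2 ⟨genericPoint _, hy ⟨_, rfl⟩⟩) hy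
      rw [this]
      exact G.isClosedMap.isClosed_range
    let P : PrimeSpectrum B := PrimeSpectrum.comap μ.toRingHom (⊥ : PrimeSpectrum (Localization.Away h))
    have hP : hU.fromSpec P = y := by
      exact hy ⟨a (⊥ : PrimeSpectrum (Localization.Away h)), congr($hG (⊥ : PrimeSpectrum (Localization.Away h)))⟩
    haveI hPm : P.asIdeal.IsMaximal := by
      rw [← PrimeSpectrum.isClosed_singleton_iff_isMaximal]
      have : ({P} : Set (PrimeSpectrum B)) = hU.fromSpec ⁻¹' {y} := by
        ext q
        simp only [Set.mem_singleton_iff, Set.mem_preimage]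
        exact ⟨fun h => h ▸ hP, fun h => hU.fromSpec.isOpenEmbedding.injective (h.trans hP.symm)⟩
      rw [this]
      exact hyc.preimage hU.fromSpec.continuous
    letI : Field (B ⧸ P.asIdeal) := Ideal.Quotient.field P.asIdeal
    haveI : Module.Finite k (B ⧸ P.asIdeal) := finite_of_finite_type_of_isJacobsonRing k (B ⧸ P.asIdeal)
    obtain ⟨r, hr⟩ := (IsAlgClosed.algebraMap_bijective_of_isIntegral (k := k) (K := B ⧸ P.asIdeal)).2
      (Ideal.Quotient.mk P.asIdeal b)
    refine hb ⟨r, ?_⟩
    rw [← μ.commutes r]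
    refine eq_of_sub_eq_zero ((map_sub μ _ _).symm.trans ?_)
    exact (Ideal.Quotient.eq.1 hr : algebraMap k B r - b ∈ P.asIdeal)

end Groth.Agent.AbExt
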