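import Groth.Agent.AbExt.Const
import Groth.Agent.AbExt.NoRat
import Groth.Agent.S7795
import Groth.Agent.PicCurve.Abel
import Groth.Agent.JacTors.SplitPic
import Groth.Agent.ClosedRep.GeomIntegral

/-!
Families of curves of positive genus have no rational curves in their fibres.
-/

set_option autoImplicit false
set_option backward.isDefEq.respectTransparency false
set_option backward.isDefEq.respectTransparency.types false
set_option linter.style.haveILetI false
set_option maxHeartbeats 1000000
set_option synthInstance.maxHeartbeats 400000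

universe u

open CategoryTheory CategoryTheory.Limits AlgebraicGeometry IsLocalRing MonoidalCategory CartesianMonoidalCategory MonObj

noncomputable section

namespace Groth.Agent.AbExt

/-- A curve of positive genus has no rational curves. -/
theorem constant_of_genus_pos {k : Type u} [Field k] (F : Scheme.{u}) [F.Over (Spec (CommRingCat.of k))]
    [IsProper (F ↘ Spec (CommRingCat.of k))] [Smooth (F ↘ Spec (CommRingCat.of k))]
    [GeometricallyIntegral (F ↘ Spec (CommRingCat.of k))] [GeometricallyConnected (F ↘ Spec (CommRingCat.of k))] (hd : topologicalKrullDim F = 1)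
    (hg : 1 ≤ Curv2.genus k F) (φ : CohB1.ProjSpace 1 k ⟶ F)
    (hφ : φ ≫ (F ↘ Spec (CommRingCat.of k)) = CohB1.ProjSpace.toSpec 1 k) : ∀ a b, φ a = φ b := by
  let sF := F ↘ Spec (CommRingCat.of k)
  let C : Over (Spec (CommRingCat.of k)) := Over.mk sF
  haveI : IsProper C.hom := inferInstanceAs (IsProper sF)
  haveI : Smooth C.hom := inferInstanceAs (Smooth sF)
  haveI : GeometricallyIntegral C.hom := inferInstanceAs (GeometricallyIntegral sF)
  haveI : IsLocallyNoetherian F := LocallyOfFiniteType.isLocallyNoetherian sF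
  haveI : IsIntegral C.left := GeometricallyIntegral.isIntegral_of_isLocallyNoetherian sF
  haveI : GeometricallyConnected C.hom := inferInstanceAs (GeometricallyConnected sF)
  -- a rational point from the origin of the line
  obtain ⟨c, -, hcS⟩ := exists_chart_p1 k
  let o : Spec (CommRingCat.of k) ⟶ CohB1.ProjSpace 1 k := Spec.map (CommRingCat.ofHom (Polynomial.evalRingHom 0)) ≫ c
  have ho : o ≫ CohB1.ProjSpace.toSpec 1 k = 𝟙 _ := by
    rw [Category.assoc, hcS, ← Spec.map_comp, ← CommRingCat.ofHom_comp,
      show (Polynomial.evalRingHom (0 : k)).comp Polynomial.C = RingHom.id k from RingHom.ext fun r => Polynomial.eval_C,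
      CommRingCat.ofHom_id, Spec.map_id]
  let P₀ : 𝟙_ (Over (Spec (CommRingCat.of k))) ⟶ C := Over.homMk (o ≫ φ) (by
    show (o ≫ φ) ≫ sF = 𝟙 _
    rw [Category.assoc, hφ, ho])
  obtain ⟨A, _, h, hAp, hAg, -, hci⟩ := PicCurve.exists_closedImmersion_abelian C hd hg P₀
  haveI := hAp; haveI := hAg; haveI := hci
  haveI : Smooth A.hom := S7795.result A
  intro a b
  refine h.left.isClosedEmbedding.injective ?_
  exact noP1_of_grpObj A k (φ ≫ h.left) (𝟙 _) (by rw [Category.assoc, Over.w h, Category.comp_id]; exact hφ) a b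

/-- A proper smooth family of curves of positive genus has no rational curves in its fibres. -/
theorem noP1_of_genus_pos {S Y : Scheme.{u}} (g : Y ⟶ S) [IsProper g] [Smooth g] [GeometricallyConnected g]
    (hdim : ∀ s : S, topologicalKrullDim ↥(g.fiber s) = 1)
    (hgen : ∀ s : S, letI : (g.fiber s).Over (Spec (S.residueField s)) := ⟨g.fiberToSpecResidueField s⟩
      1 ≤ Curv2.genus (S.residueField s) (g.fiber s)) : NoP1 g := by
  intro K _ φ s hφ
  haveI : GeometricallyIntegral g := ClosedRep.GeomIntegral.geometricallyIntegral_of_smooth g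
  let x : S := s (closedPoint K)
  let κ := S.residueField x
  letI : Algebra κ K := (S.descResidueField (Scheme.stalkClosedPointTo s)).hom.toAlgebra
  have hs : Spec.map (CommRingCat.ofHom (algebraMap κ K)) ≫ S.fromSpecResidueField x = s :=
    Scheme.descResidueField_stalkClosedPointTo_fromSpecResidueField K S s
  let F := g.fiber x
  letI : F.Over (Spec (CommRingCat.of κ)) := ⟨g.fiberToSpecResidueField x⟩
  haveI : IsProper (F ↘ Spec (CommRingCat.of κ)) := MorphismProperty.pullback_snd (P := @IsProper) _ _ ‹_›
  haveI : Smooth (F ↘ Spec (CommRingCat.of κ)) := MorphismProperty.pullback_snd (P := @Smooth) _ _ ‹_›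
  haveI : GeometricallyIntegral (F ↘ Spec (CommRingCat.of κ)) :=
    MorphismProperty.pullback_snd (P := @GeometricallyIntegral) _ _ ‹_›
  haveI : IsLocallyNoetherian F := LocallyOfFiniteType.isLocallyNoetherian (F ↘ Spec (CommRingCat.of κ))
  haveI : IsIntegral F := GeometricallyIntegral.isIntegral_of_isLocallyNoetherian (F ↘ Spec (CommRingCat.of κ))
  let Z := Curv2.bc κ F K
  letI : Z.Over (Spec (CommRingCat.of K)) := ⟨Curv2.bcSnd κ F K⟩
  haveI : IsProper (Z ↘ Spec (CommRingCat.of K)) := MorphismProperty.pullback_snd (P := @IsProper) _ _ ‹_›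
  haveI : Smooth (Z ↘ Spec (CommRingCat.of K)) := MorphismProperty.pullback_snd (P := @Smooth) _ _ ‹_›
  haveI : GeometricallyIntegral (Z ↘ Spec (CommRingCat.of K)) :=
    MorphismProperty.pullback_snd (P := @GeometricallyIntegral) _ _ ‹_›
  haveI : GeometricallyConnected (F ↘ Spec (CommRingCat.of κ)) :=
    MorphismProperty.pullback_snd (P := @GeometricallyConnected) _ _ ‹_›
  haveI : GeometricallyConnected (Z ↘ Spec (CommRingCat.of K)) :=
    MorphismProperty.pullback_snd (P := @GeometricallyConnected) _ _ ‹_›
  have hd : topologicalKrullDim Z = 1 :=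
    (DimField.dim_eq_of_isPullback (F ↘ Spec (CommRingCat.of κ)) (Curv2.bcSnd κ F K) (Curv2.bcFst κ F K)
      (Spec.map (CommRingCat.ofHom (algebraMap κ K))) (IsPullback.of_hasPullback _ _)).symm.trans (hdim x)
  have hg1 : 1 ≤ Curv2.genus K Z := by
    rw [JacTors.genus_bc κ F K]; exact hgen x
  let φF : CohB1.ProjSpace 1 K ⟶ F :=
    pullback.lift φ (CohB1.ProjSpace.toSpec 1 K ≫ Spec.map (CommRingCat.ofHom (algebraMap κ K)))
      (by rw [hφ, Category.assoc, hs])
  let φZ : CohB1.ProjSpace 1 K ⟶ Z := pullback.lift φF (CohB1.ProjSpace.toSpec 1 K) (pullback.lift_snd _ _ _)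
  have h := constant_of_genus_pos Z hd hg1 φZ (pullback.lift_snd _ _ _)
  intro a b
  have he : φZ ≫ Curv2.bcFst κ F K ≫ g.fiberι x = φ := by
    show φZ ≫ pullback.fst _ _ ≫ pullback.fst _ _ = φ
    rw [pullback.lift_fst_assoc, pullback.lift_fst]
  rw [← he]
  simp only [Scheme.Hom.comp_apply, h a b]

end Groth.Agent.AbExt
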