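import Groth.Agent.PtBlow.RatMap
import Groth.Agent.PtBlow.Universal
import Groth.Agent.WeilExt.Point
import Groth.Agent.SerreReg.Regular
import Groth.Agent.RegLocus.Scheme
import Groth.Agent.S0564

/-!
A morphism from the punctured spectrum of a regular local ring to a proper scheme without rational curves in
its fibres extends to the closed point.
-/

set_option autoImplicit false
set_option backward.isDefEq.respectTransparency false
set_option backward.isDefEq.respectTransparency.types false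
set_option linter.style.haveILetI false

universe u

open CategoryTheory CategoryTheory.Limits AlgebraicGeometry TopologicalSpace IsLocalRing

noncomputable section

namespace Groth.Agent.AbExt

/-- every map of a projective line over a field into a fibre is constant -/
def NoP1 {A S : Scheme.{u}} (pA : A ⟶ S) : Prop :=
  ∀ (k : Type u) [Field k] (φ : CohB1.ProjSpace 1 k ⟶ A) (s : Spec (CommRingCat.of k) ⟶ S),
    φ ≫ pA = CohB1.ProjSpace.toSpec 1 k ≫ s → ∀ a b, φ a = φ b

theorem regular_stalk_spec (R : Type u) [CommRing R] [IsRegularLocalRing R] (x : Spec (CommRingCat.of R)) :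
    IsRegularLocalRing ((Spec (CommRingCat.of R)).presheaf.stalk x) :=
  RegLocus.to_stalk _ x (Groth.Agent.S0564.result R x.asIdeal)

theorem dim_stalk_spec (R : CommRingCat.{u}) (x : Spec R) :
    ringKrullDim ((Spec R).presheaf.stalk x) = x.asIdeal.height := by
  have : IsLocalization.AtPrime ((Spec.structureSheaf R).presheaf.stalk x) x.asIdeal := inferInstance
  exact IsLocalization.AtPrime.ringKrullDim_eq_height x.asIdeal ((Spec.structureSheaf R).presheaf.stalk x)

theorem genericPoint_spec_ne (R : Type u) [CommRing R] [IsDomain R] [IsLocalRing R] (h : ¬ IsField R) :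
    (genericPoint (Spec (CommRingCat.of R)) : Spec (CommRingCat.of R)) ≠ closedPoint R := fun e =>
  h (IsLocalRing.isField_iff_maximalIdeal_eq.2
    (congrArg PrimeSpectrum.asIdeal (e.symm.trans (genericPoint_eq_bot_of_affine (CommRingCat.of R)))))

variable {A S : Scheme.{u}} (pA : A ⟶ S)

theorem seq_epi {X X' : Scheme.{u}} {g : X' ⟶ X} (hg : PtBlow.Seq g) {Y : Scheme.{u}} {ψ₁ ψ₂ : X ⟶ Y}
    (h : g ≫ ψ₁ = g ≫ ψ₂) : ψ₁ = ψ₂ := by
  induction hg with
  | id X => simpa using h
  | step b r z hz hN hb hr ih =>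
    haveI := hN
    refine ih (PtBlow.epi_blowUp hz hb ?_)
    simpa using h

theorem seq_birational {X X' : Scheme.{u}} {g : X' ⟶ X} (hg : PtBlow.Seq g) :
    IsIntegral X → ∀ O : X.Opens, (O : Set X).Nonempty → (∀ x ∈ O, ringKrullDim (X.presheaf.stalk x) < 2) →
      IsIso (g ∣_ O) := by
  induction hg with
  | id X => intro _ O _ _; infer_instance
  | @step Y Z X b r z hz hN hb hr ih =>
    intro hX O hO hdim
    haveI := hN
    haveI := ih hX O hO hdim
    haveI : IsIso (b ∣_ (r ⁻¹ᵁ O)) := by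
      refine PtBlow.isIso_restrict_le b (V := (PtBlow.pt hz).support.compl) (fun w hw => ?_)
        (BlowUpLib.isIso_restrict hb)
      show w ∉ ((PtBlow.pt hz).support : Set Z)
      rw [PtBlow.coe_support_pt hz]
      rintro rfl
      have e := (asIso ((r ∣_ O).stalkMap ⟨w, hw⟩)).commRingCatIsoToRingEquiv
      have e₁ := (asIso ((r ⁻¹ᵁ O).ι.stalkMap ⟨w, hw⟩)).commRingCatIsoToRingEquiv
      have e₂ := (asIso (O.ι.stalkMap ((r ∣_ O) ⟨w, hw⟩))).commRingCatIsoToRingEquiv
      have hd : ringKrullDim (Z.presheaf.stalk w) < 2 := by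
        refine lt_of_eq_of_lt ?_ (hdim _ ((r ∣_ O) ⟨w, hw⟩).2)
        exact (ringKrullDim_eq_of_ringEquiv e₁).trans ((ringKrullDim_eq_of_ringEquiv e.symm).trans
          (ringKrullDim_eq_of_ringEquiv e₂.symm))
      exact absurd hz.dim.ge (not_le.2 hd)
    rw [morphismRestrict_comp]
    infer_instance

theorem seq_descend (hA : NoP1 pA) {X X' : Scheme.{u}} {g : X' ⟶ X} (hg : PtBlow.Seq g) :
    ∀ (sX : X ⟶ S) (h : X' ⟶ A), h ≫ pA = g ≫ sX → ∃ ψ : X ⟶ A, ψ ≫ pA = sX ∧ g ≫ ψ = h := by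
  induction hg with
  | id X => exact fun sX h hh => ⟨h, by simpa using hh, Category.id_comp _⟩
  | @step Y Z X b r z hz hN hb hr ih =>
    intro sX h hh
    haveI := hN
    obtain ⟨k, _, ι, hι, hE, hc, -, -, i, -, -, hib⟩ := PtBlow.exists_contraction'' hz hb
    have hconst := hA k (ι ≫ h) (i ≫ r ≫ sX) (by
      rw [Category.assoc, hh, Category.assoc, reassoc_of% hib])
    obtain ⟨w₀⟩ : Nonempty (CohB1.ProjSpace 1 k) := by
      obtain ⟨-, -, y, -, hy, -⟩ := hc
      obtain ⟨w, -⟩ := hy.symm.subset (Set.mem_singleton y)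
      exact ⟨w⟩
    obtain ⟨ψ, hψ, -⟩ := PtBlow.existsUnique_desc ι hE b hc h ((ι ≫ h) w₀)
      (Set.eq_singleton_iff_unique_mem.2 ⟨⟨w₀, rfl⟩, by rintro _ ⟨w, rfl⟩; exact hconst w w₀⟩)
    obtain ⟨ψ', hψ'S, hψ'⟩ := ih sX ψ (PtBlow.epi_blowUp hz hb (by rw [reassoc_of% hψ, hh, Category.assoc]))
    exact ⟨ψ', hψ'S, by rw [Category.assoc, hψ', hψ]⟩

/-- The two-dimensional case. -/
theorem ext_dim_two [IsProper pA] (hA : NoP1 pA) (R : Type u) [CommRing R] [IsRegularLocalRing R]
    (hd : ringKrullDim R = 2) (s : Spec (CommRingCat.of R) ⟶ S) (V : (Spec (CommRingCat.of R)).Opens)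
    (hV : ∀ x, x ≠ closedPoint R → x ∈ V) (φ : V.toScheme ⟶ A) (hφ : φ ≫ pA = V.ι ≫ s) :
    ∃ ψ : Spec (CommRingCat.of R) ⟶ A, ψ ≫ pA = s ∧ V.ι ≫ ψ = φ := by
  let X := Spec (CommRingCat.of R)
  haveI : IsDomain R := RegLoc.isDomain R
  haveI : IsNoetherianRing (CommRingCat.of R) := inferInstanceAs (IsNoetherianRing R)
  let O : X.Opens := ⟨{closedPoint R}ᶜ, (isClosed_singleton_closedPoint R).isOpen_compl⟩
  have hη : (genericPoint X : X) ∈ O := genericPoint_spec_ne R fun hf => by
    rw [ringKrullDim_eq_zero_of_isField hf] at hd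
    exact absurd hd (by decide)
  obtain ⟨X', g, h, hg, hh, hres⟩ := PtBlow.exists_morphism (regular_stalk_spec R)
    (le_of_eq ((PrimeSpectrum.topologicalKrullDim_eq_ringKrullDim R).trans hd)) s pA V
    ⟨_, hV _ hη⟩ φ hφ
  obtain ⟨ψ, hψS, hψ⟩ := seq_descend pA hA hg s h hh
  refine ⟨ψ, hψS, ?_⟩
  have hOdim : ∀ x ∈ O, ringKrullDim (X.presheaf.stalk x) < 2 := fun x hx => by
    rw [← hd, dim_stalk_spec, ← IsLocalRing.maximalIdeal_height_eq_ringKrullDim]
    refine WithBot.coe_lt_coe.2 (Ideal.height_strict_mono_of_isPrime ?_)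
    exact lt_of_le_of_ne (IsLocalRing.le_maximalIdeal x.isPrime.ne_top) fun e => hx (PrimeSpectrum.ext e)
  have hle : O ≤ V := fun x hx => hV x hx
  haveI : IsIso (g ∣_ O) := seq_birational hg inferInstance O ⟨_, hη⟩ hOdim
  haveI : IsDominant (X.homOfLE hle) := by
    refine ⟨dense_iff_inter_open.mpr fun W hW hne => ?_⟩
    obtain ⟨w, hw⟩ := hne
    have hgW : (genericPoint X : X) ∈ (V.ι ''ᵁ ⟨W, hW⟩ : X.Opens) :=
      ((genericPoint_spec X).mem_open_set_iff (V.ι ''ᵁ ⟨W, hW⟩).2).2 ⟨V.ι w, trivial, w, hw, rfl⟩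
    obtain ⟨v, hv, hve⟩ := hgW
    exact ⟨v, hv, ⟨_, hη⟩, V.ι.isOpenEmbedding.injective (by
      rw [← Scheme.Hom.comp_apply, Scheme.homOfLE_ι]; exact hve.symm)⟩
  refine ext_of_isDominant_of_isSeparated pA (by rw [Category.assoc, hψS, hφ]) (X.homOfLE hle) ?_
  rw [Scheme.homOfLE_ι_assoc, ← cancel_epi (g ∣_ O), morphismRestrict_ι_assoc, hψ]
  have h1 : (g ⁻¹ᵁ O).ι ≫ h = X'.homOfLE (g.preimage_mono hle) ≫ (g ∣_ V) ≫ φ := by
    rw [← hres, Scheme.homOfLE_ι_assoc]
  rw [h1, ← Category.assoc, ← Category.assoc]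
  congr 1
  rw [← cancel_mono V.ι, Category.assoc, Category.assoc, morphismRestrict_ι, Scheme.homOfLE_ι_assoc,
    Scheme.homOfLE_ι, morphismRestrict_ι]

/-- A prime of height at most one lies below a prime which contains `r` and is not maximal. -/
theorem exists_prime_above {R : Type u} [CommRing R] [IsRegularLocalRing R] (hd : 2 < ringKrullDim R)
    {r : R} (hr : r ∈ maximalIdeal R) (p : Ideal R) [p.IsPrime] (hp : p.height ≤ 1) :
    ∃ q : Ideal R, q.IsPrime ∧ p ≤ q ∧ r ∈ q ∧ q ≠ maximalIdeal R := by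
  haveI : IsDomain R := RegLoc.isDomain R
  haveI : UniqueFactorizationMonoid R := UFDLib.ufd_of_isRegularLocalRing R
  obtain ⟨f, hfp, hf⟩ : ∃ f ∈ p, p ≤ Ideal.span {f} := by
    by_cases h0 : p = ⊥
    · exact ⟨0, zero_mem _, by simp [h0]⟩
    obtain ⟨f, hfp, hf⟩ := Ideal.IsPrime.exists_mem_prime_of_ne_bot ‹p.IsPrime› h0
    haveI : (Ideal.span {f}).IsPrime := (Ideal.span_singleton_prime hf.ne_zero).2 hf
    refine ⟨f, hfp, le_of_eq (Eq.symm ?_)⟩
    by_contra hne
    have h1 := Ideal.height_strict_mono_of_isPrime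
      (lt_of_le_of_ne ((Ideal.span_singleton_le_iff_mem _).2 hfp) hne)
    have h2 : (Ideal.span {f}).height ≠ 0 := fun h => hf.ne_zero (by
      rw [Ideal.height_eq_zero_iff, IsDomain.minimalPrimes_eq_singleton_bot] at h
      exact Ideal.span_singleton_eq_bot.1 h)
    exact absurd ((ENat.one_le_iff_ne_zero.2 h2).trans_lt h1) (not_lt.2 hp)
  have hne : Ideal.span ({f, r} : Set R) ≠ ⊤ := by
    refine ne_top_of_le_ne_top (maximalIdeal.isMaximal R).ne_top (Ideal.span_le.2 ?_)
    rintro z (rfl | rfl)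
    · exact IsLocalRing.le_maximalIdeal (Ideal.IsPrime.ne_top ‹_›) hfp
    · exact hr
  obtain ⟨q, hq⟩ := (Ideal.span ({f, r} : Set R)).nonempty_minimalPrimes hne
  refine ⟨q, hq.1.1, hf.trans ?_, hq.1.2 (Ideal.subset_span (by simp)), fun hqm => ?_⟩
  · exact (Ideal.span_mono (by simp)).trans hq.1.2
  · haveI := hq.1.1
    have hle := Ideal.height_le_spanRank_toENat_of_mem_minimal_primes _ q hq
    have h2 : (Submodule.spanRank (Ideal.span ({f, r} : Set R))).toENat ≤ 2 := by
      refine (Cardinal.toENat.monotone' (Submodule.spanRank_span_le_card _)).trans ?_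
      have hcard : Cardinal.mk ({f, r} : Set R) ≤ 2 := by
        refine (Cardinal.mk_insert_le).trans ?_
        simp [one_add_one_eq_two]
      exact (Cardinal.toENat.monotone' hcard).trans (by simp)
    rw [hqm] at hle
    rw [← IsLocalRing.maximalIdeal_height_eq_ringKrullDim] at hd
    exact absurd (hle.trans h2) (not_le.2 (WithBot.coe_lt_coe.1 hd))

/-- Extension to the closed point of the spectrum of a regular local ring of dimension at least two. -/
theorem ext_closedPoint [IsProper pA] (hA : NoP1 pA) : ∀ (n : ℕ) (R : Type u) [CommRing R] [IsRegularLocalRing R],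
    ringKrullDim R = (n + 2 : ℕ) → ∀ (s : Spec (CommRingCat.of R) ⟶ S) (V : (Spec (CommRingCat.of R)).Opens),
    (∀ x, x ≠ closedPoint R → x ∈ V) → ∀ (φ : V.toScheme ⟶ A), φ ≫ pA = V.ι ≫ s →
    ∃ ψ : Spec (CommRingCat.of R) ⟶ A, ψ ≫ pA = s ∧ V.ι ≫ ψ = φ := by
  intro n
  induction n with
  | zero => exact fun R _ _ hd => ext_dim_two pA hA R (by simpa using hd)
  | succ n ih =>
    intro R _ _ hd s V hV φ hφ
    haveI : IsDomain R := RegLoc.isDomain R
    haveI : IsNoetherianRing (CommRingCat.of R) := inferInstanceAs (IsNoetherianRing R)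
    let X := Spec (CommRingCat.of R)
    have h2 : 2 < ringKrullDim R := by rw [hd]; exact_mod_cast by omega
    obtain ⟨r, hr, hr2⟩ : ∃ r ∈ maximalIdeal R, r ∉ maximalIdeal R ^ 2 := by
      refine Set.not_subset.1 fun hle : maximalIdeal R ≤ maximalIdeal R ^ 2 => ?_
      have h0 : maximalIdeal R = ⊥ := Submodule.eq_bot_of_le_smul_of_le_jacobson_bot (maximalIdeal R) _
        (IsNoetherian.noetherian _) (by rwa [smul_eq_mul, ← pow_two]) (IsLocalRing.maximalIdeal_le_jacobson _)
      rw [ringKrullDim_eq_zero_of_isField (IsLocalRing.isField_iff_maximalIdeal_eq.2 h0)] at h2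
      exact absurd h2 (by decide)
    let R' := R ⧸ Ideal.span {r}
    obtain ⟨hR', hsm⟩ := SerreReg.isRegularLocalRing_quot hr hr2
    haveI := hR'
    have hd' : ringKrullDim R' = (n + 2 : ℕ) := by
      have h1 := ringKrullDim_quotient_span_singleton_succ_eq_ringKrullDim hsm hr
      rw [hd, show ((n + 1 + 2 : ℕ) : WithBot ℕ∞) = ((n + 2 : ℕ) : WithBot ℕ∞) + ((1 : ℕ) : ℕ) from
        by push_cast; ring] at h1
      exact (ENat.WithBot.add_natCast_cancel (c := 1)).1 (by simpa using h1)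
    let c : Spec (CommRingCat.of R') ⟶ X := Spec.map (CommRingCat.ofHom (Ideal.Quotient.mk (Ideal.span {r})))
    haveI : IsClosedImmersion c := IsClosedImmersion.spec_of_surjective _ Ideal.Quotient.mk_surjective
    haveI : IsLocalHom (Ideal.Quotient.mk (Ideal.span {r})) := .of_surjective _ Ideal.Quotient.mk_surjective
    have hcc : c (closedPoint R') = closedPoint R := IsLocalRing.comap_closedPoint _
    obtain ⟨ψ', hψ'S, hψ'⟩ := ih R' hd' (c ≫ s) (c ⁻¹ᵁ V)
      (fun x hx => hV _ fun e => hx (c.isClosedEmbedding.injective (e.trans hcc.symm)))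
      (c ∣_ V ≫ φ) (by rw [Category.assoc, hφ, morphismRestrict_ι_assoc])
    -- an affine open of the base change containing the image of the closed point
    let G := pullback pA s
    let pG : G ⟶ X := pullback.snd pA s
    let Φ : V.toScheme ⟶ G := pullback.lift φ V.ι hφ
    let Ψ : Spec (CommRingCat.of R') ⟶ G := pullback.lift ψ' c hψ'S
    have hΦΨ : c ∣_ V ≫ Φ = (c ⁻¹ᵁ V).ι ≫ Ψ := pullback.hom_ext
      (by rw [Category.assoc, Category.assoc, pullback.lift_fst, pullback.lift_fst, hψ'])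
      (by rw [Category.assoc, Category.assoc, pullback.lift_snd, pullback.lift_snd, morphismRestrict_ι])
    obtain ⟨U₀, hU₀, hmem, -⟩ := exists_isAffineOpen_mem_and_subset (X := G) (x := Ψ (closedPoint R')) (U := ⊤) trivial
    have key : ∀ (x : X), (PrimeSpectrum.asIdeal x).height ≤ 1 → ∃ hx : x ∈ V, Φ ⟨x, hx⟩ ∈ U₀ := by
      intro x hx
      obtain ⟨q, hq, hxq, hrq, hqm⟩ := exists_prime_above h2 hr x.asIdeal hx
      let y : X := ⟨q, hq⟩
      have hxy : x ⤳ y := (PrimeSpectrum.le_iff_specializes x y).1 hxq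
      have hy : y ≠ closedPoint R := fun e => hqm (congrArg PrimeSpectrum.asIdeal e)
      refine ⟨hxy.mem_open V.2 (hV y hy), ?_⟩
      obtain ⟨y', hy'⟩ : y ∈ Set.range c := by
        show y ∈ Set.range (PrimeSpectrum.comap (Ideal.Quotient.mk (Ideal.span {r})))
        rw [range_comap_of_surjective _ _ Ideal.Quotient.mk_surjective, Ideal.mk_ker]
        exact fun z hz => (Ideal.span_singleton_le_iff_mem _).2 hrq hz
      have hy'V : y' ∈ c ⁻¹ᵁ V := show c y' ∈ V from hy'.symm ▸ hV y hy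
      have h3 : Φ ⟨y, hV y hy⟩ = Ψ y' := by
        have := congr($hΦΨ ⟨y', hy'V⟩)
        simp only [Scheme.Hom.comp_apply] at this
        refine Eq.trans (congrArg Φ (Subtype.ext ?_)) this
        rw [morphismRestrict_base_coe]
        exact hy'.symm
      have h4 : Ψ y' ∈ U₀ := ((IsLocalRing.specializes_closedPoint y').map Ψ.continuous).mem_open U₀.2 hmem
      have hxy' : (⟨x, hxy.mem_open V.2 (hV y hy)⟩ : V) ⤳ ⟨y, hV y hy⟩ := (subtype_specializes_iff _ _).2 hxy
      exact (hxy'.map Φ.continuous).mem_open U₀.2 (h3.symm ▸ h4)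
    -- spreading out over the affine base
    have hdense : Dense (V : Set X) := V.2.dense ⟨genericPoint X, hV _ (genericPoint_spec_ne R fun hf => by
      rw [ringKrullDim_eq_zero_of_isField hf] at h2
      exact absurd h2 (by decide))⟩
    obtain ⟨N, g, hN, hgS, hagree⟩ := WeilExt.exists_ext_nhd (𝟙 X) pG (𝟙 X) (closedPoint R)
      (regular_stalk_spec R _) V hdense Φ (by rw [pullback.lift_snd, Category.comp_id]) U₀ hU₀
      fun z _ hz => by
        have hz' : (PrimeSpectrum.asIdeal z).height ≤ 1 := by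
          rw [dim_stalk_spec] at hz
          exact_mod_cast hz
        obtain ⟨hx, hxU⟩ := key z hz'
        exact ⟨hx, hxU⟩
    obtain rfl : N = ⊤ := eq_top_iff.2 fun z _ => (IsLocalRing.specializes_closedPoint z).mem_open N.2 hN
    refine ⟨X.topIso.inv ≫ g ≫ pullback.fst pA s, ?_, ?_⟩
    · simp only [Category.assoc, pullback.condition]
      rw [reassoc_of% hgS]
      rw [← X.topIso_hom, Iso.inv_hom_id_assoc]
    · haveI : IsIso (X.homOfLE (inf_le_left : V ⊓ ⊤ ≤ V)) := by
        rw [show X.homOfLE (inf_le_left : V ⊓ ⊤ ≤ V) = (X.isoOfEq (inf_top_eq V)).hom by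
          rw [← cancel_mono V.ι, Scheme.homOfLE_ι, Scheme.isoOfEq_hom_ι]]
        infer_instance
      rw [← cancel_epi (X.homOfLE (inf_le_left : V ⊓ ⊤ ≤ V)), Scheme.homOfLE_ι_assoc]
      have h5 := congrArg (· ≫ pullback.fst pA s) hagree
      simp only [Φ, Category.assoc, pullback.lift_fst] at h5
      rw [h5]
      have h6 : (V ⊓ ⊤).ι ≫ X.topIso.inv = X.homOfLE (inf_le_right : V ⊓ ⊤ ≤ ⊤) := by
        rw [← cancel_mono (⊤ : X.Opens).ι, Category.assoc, Scheme.homOfLE_ι, ← X.topIso_hom, Iso.inv_hom_id,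
          Category.comp_id]
      rw [reassoc_of% h6]

end Groth.Agent.AbExt
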