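import Groth.Agent.AbExt.Local
import Groth.Agent.RatExt.Points

/-!
A rational map from a regular scheme to a proper scheme without rational curves in the fibres is defined
everywhere.
-/

set_option autoImplicit false
set_option backward.isDefEq.respectTransparency false
set_option backward.isDefEq.respectTransparency.types false
set_option linter.style.haveILetI false

universe u

open CategoryTheory CategoryTheory.Limits AlgebraicGeometry TopologicalSpace IsLocalRing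

noncomputable section

namespace Groth.Agent.AbExt

variable {A S T : Scheme.{u}} (pA : A ⟶ S) (t : T ⟶ S)

theorem isReduced_of_regular_stalks (hreg : ∀ x : T, IsRegularLocalRing (T.presheaf.stalk x)) : IsReduced T := by
  haveI : ∀ x : T, _root_.IsReduced (T.presheaf.stalk x) := fun x => by
    haveI := hreg x
    haveI := RegLoc.isDomain (T.presheaf.stalk x)
    infer_instance
  exact isReduced_of_isReduced_stalk T

theorem exists_natCast_dim (R : Type u) [CommRing R] [IsLocalRing R] [IsNoetherianRing R] :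
    ∃ n : ℕ, ringKrullDim R = n := by
  rw [← IsLocalRing.maximalIdeal_height_eq_ringKrullDim]
  obtain ⟨n, hn⟩ := ENat.ne_top_iff_exists.1 (Ideal.height_ne_top (maximalIdeal.isMaximal R).ne_top)
  exact ⟨n, by rw [← hn]; rfl⟩

/-- Extension over a point all of whose proper generizations are in the domain of definition. -/
theorem exists_nhd_point [IsProper pA] (hA : NoP1 pA) [IsLocallyNoetherian T]
    (hreg : ∀ x : T, IsRegularLocalRing (T.presheaf.stalk x)) (U : T.Opens) (hU : Dense (U : Set T))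
    (h : U.toScheme ⟶ A) (hh : h ≫ pA = U.ι ≫ t) (x : T) (n : ℕ)
    (hdim : ringKrullDim (T.presheaf.stalk x) = (n + 2 : ℕ))
    (hgen : ∀ y, ringKrullDim (T.presheaf.stalk y) < (n + 2 : ℕ) → y ∈ U) :
    ∃ (U' : T.Opens) (hUU' : U ≤ U') (h' : U'.toScheme ⟶ A),
      x ∈ U' ∧ h' ≫ pA = U'.ι ≫ t ∧ T.homOfLE hUU' ≫ h' = h := by
  let R := T.presheaf.stalk x
  haveI : IsRegularLocalRing R := hreg x
  haveI : IsDomain R := RegLoc.isDomain R
  let j : Spec R ⟶ T := T.fromSpecStalk x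
  let V : (Spec R).Opens := j ⁻¹ᵁ U
  have hV : ∀ p, p ≠ closedPoint R → p ∈ V := fun p hp => hgen _ (by
    refine lt_of_le_of_lt (WeilExt.dim_stalk_le_height x p rfl) ?_
    rw [← hdim, ← IsLocalRing.maximalIdeal_height_eq_ringKrullDim]
    refine WithBot.coe_lt_coe.2 (Ideal.height_strict_mono_of_isPrime ?_)
    exact lt_of_le_of_ne (IsLocalRing.le_maximalIdeal p.isPrime.ne_top) fun e => hp (PrimeSpectrum.ext e))
  obtain ⟨ψ, hψS, hψ⟩ := ext_closedPoint pA hA n R hdim (j ≫ t) V hV (j ∣_ U ≫ h)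
    (by rw [Category.assoc, hh, morphismRestrict_ι_assoc])
  obtain ⟨N₀, hxN₀, g, hg, hgS⟩ := spread_out_of_isGermInjective' t pA ψ hψS
  obtain ⟨N, hxN, hNN₀, hint, hgenN⟩ := SectionExt.exists_integral_nhd x N₀ hxN₀
  let gN := T.homOfLE hNN₀ ≫ g
  have hgN : gN ≫ pA = N.ι ≫ t := by rw [Category.assoc, hgS, Scheme.homOfLE_ι_assoc]
  let K := FractionRing R
  let gen : Spec (CommRingCat.of K) ⟶ Spec R := Spec.map (CommRingCat.ofHom (algebraMap R K))
  let ξ : Spec (CommRingCat.of K) ⟶ V.toScheme := IsOpenImmersion.lift V.ι gen (by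
    rw [Scheme.Opens.range_ι]
    rintro _ ⟨z, rfl⟩
    exact SectionExt.range_genMap_subset x U hU ⟨z, rfl⟩)
  have hξ : ξ ≫ V.ι = gen := IsOpenImmersion.lift_fac _ _ _
  have hagree : T.homOfLE (inf_le_left : U ⊓ N ≤ U) ≫ h = T.homOfLE (inf_le_right : U ⊓ N ≤ N) ≫ gN := by
    obtain ⟨p, hpN, hpU⟩ := hU.inter_open_nonempty N N.2 ⟨x, hxN⟩
    haveI : Nonempty (U ⊓ N : T.Opens).toScheme := ⟨⟨p, hpU, hpN⟩⟩
    haveI : IsIntegral (U ⊓ N : T.Opens).toScheme :=
      isIntegral_of_isOpenImmersion (T.homOfLE (inf_le_right : U ⊓ N ≤ N))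
    let η : Spec (CommRingCat.of K) ⟶ (U ⊓ N : T.Opens).toScheme := IsOpenImmersion.lift (U ⊓ N).ι (gen ≫ j) (by
      rw [Scheme.Opens.range_ι]; exact hgenN _ ⟨p, ⟨hpU, hpN⟩, hpN⟩)
    have hη : η ≫ (U ⊓ N).ι = gen ≫ j := IsOpenImmersion.lift_fac _ _ _
    haveI : IsDominant η := ⟨dense_iff_inter_open.mpr fun O' hO' hne => by
      obtain ⟨o, ho⟩ := hne
      let O'' : T.Opens := (U ⊓ N).ι ''ᵁ ⟨O', hO'⟩
      obtain ⟨r, hr, hr'⟩ := hgenN O'' ⟨(U ⊓ N).ι o, ⟨o, ho, rfl⟩, o.2.2⟩ ⟨(⊥ : PrimeSpectrum K), rfl⟩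
      refine ⟨r, hr, (⊥ : PrimeSpectrum K), (U ⊓ N).ι.isOpenEmbedding.injective ?_⟩
      rw [← Scheme.Hom.comp_apply, hη]
      exact hr'.symm⟩
    refine ext_of_isDominant_of_isSeparated pA ?_ η ?_
    · simp only [Category.assoc, hh, hgN, Scheme.homOfLE_ι_assoc]
    · have e1 : η ≫ T.homOfLE (inf_le_left : U ⊓ N ≤ U) = ξ ≫ j ∣_ U := by
        rw [← cancel_mono U.ι, Category.assoc, Category.assoc, Scheme.homOfLE_ι, hη, morphismRestrict_ι,
          reassoc_of% hξ]
      have e2 : η ≫ T.homOfLE (inf_le_right : U ⊓ N ≤ N) ≫ T.homOfLE hNN₀ =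
          gen ≫ N₀.fromSpecStalkOfMem x hxN₀ := by
        rw [← cancel_mono N₀.ι]
        simp only [Category.assoc, Scheme.homOfLE_ι, Scheme.Opens.fromSpecStalkOfMem_ι, hη]
        rfl
      simp only [gN]
      rw [reassoc_of% e1, reassoc_of% e2, ← hg, ← hψ, reassoc_of% hξ]
  obtain ⟨c, hc₁, hc₂⟩ := SectionExt.exists_glue_two U N h gN hagree
  refine ⟨U ⊔ N, le_sup_left, c, (le_sup_right : N ≤ U ⊔ N) hxN, SectionExt.hom_ext_two ?_ ?_, hc₁⟩
  · rw [reassoc_of% hc₁, Scheme.homOfLE_ι_assoc, hh]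
  · rw [reassoc_of% hc₂, Scheme.homOfLE_ι_assoc, hgN]

/-- A morphism on a dense open of a regular scheme to a proper scheme without rational curves in the fibres
extends uniquely. -/
theorem existsUnique_ext [IsProper pA] (hA : NoP1 pA) [IsLocallyNoetherian T]
    (hreg : ∀ x : T, IsRegularLocalRing (T.presheaf.stalk x)) (U : T.Opens) (hU : Dense (U : Set T))
    (h : U.toScheme ⟶ A) (hh : h ≫ pA = U.ι ≫ t) :
    ∃! g : T ⟶ A, g ≫ pA = t ∧ U.ι ≫ g = h := by
  haveI : IsReduced T := isReduced_of_regular_stalks hreg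
  have key : ∀ d : ℕ, ∃ (W : T.Opens) (hUW : U ≤ W) (g : W.toScheme ⟶ A),
      g ≫ pA = W.ι ≫ t ∧ T.homOfLE hUW ≫ g = h ∧
        ∀ y, ringKrullDim (T.presheaf.stalk y) ≤ (d + 1 : ℕ) → y ∈ W := by
    intro d
    induction d with
    | zero =>
      obtain ⟨W, hUW, g, hg, hres, hW⟩ := RatExt.exists_hom_points pA t U hU h hh
        {y | ringKrullDim (T.presheaf.stalk y) ≤ 1} (fun y hy => RatExt.domain_valuationRing_of_regular (hreg y) hy)
      exact ⟨W, hUW, g, hg, hres, fun y hy => hW y (by simpa using hy)⟩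
    | succ d ih =>
      obtain ⟨W, hUW, g, hg, hres, hW⟩ := ih
      have hWd : Dense (W : Set T) := hU.mono hUW
      have step : ∀ x : {x : T // ringKrullDim (T.presheaf.stalk x) = (d + 2 : ℕ)},
          ∃ (W' : T.Opens) (hWW' : W ≤ W') (g' : W'.toScheme ⟶ A),
            x.1 ∈ W' ∧ g' ≫ pA = W'.ι ≫ t ∧ T.homOfLE hWW' ≫ g' = g := fun x =>
        exists_nhd_point pA t hA hreg W hWd g hg x.1 d x.2 fun y hy => hW y (by
          obtain ⟨m, hm⟩ := exists_natCast_dim (T.presheaf.stalk y)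
          rw [hm] at hy ⊢
          exact_mod_cast Nat.lt_succ_iff.1 (by exact_mod_cast hy))
      choose W' hWW' g' hxW' hg' hres' using step
      obtain ⟨W₂, hW₂, g₂, h₁, h₂, h₃⟩ := RatExt.exists_glue_family pA t W hWd g hg W' hWW' g' hg' hres'
      refine ⟨W₂, hUW.trans hW₂, g₂, h₁, by rw [← T.homOfLE_homOfLE hUW hW₂, Category.assoc, h₂, hres], ?_⟩
      intro y hy
      obtain ⟨m, hm⟩ := exists_natCast_dim (T.presheaf.stalk y)
      rw [hm] at hy
      have hy' : m ≤ d + 2 := by exact_mod_cast hy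
      rcases hy'.lt_or_eq with hlt | heq
      · exact hW₂ (hW y (by rw [hm]; exact_mod_cast Nat.lt_succ_iff.1 hlt))
      · exact h₃ ⟨y, heq ▸ hm⟩ (hxW' _)
  choose W hUW g hg hres hW using key
  obtain ⟨W', hUW', g', h1, h2, h3⟩ := RatExt.exists_glue_family pA t U hU h hh (ι := ULift.{u} ℕ)
    (fun d => W d.down) (fun d => hUW d.down) (fun d => g d.down) (fun d => hg d.down) (fun d => hres d.down)
  have htop : ∀ y, y ∈ W' := fun y => by
    obtain ⟨m, hm⟩ := exists_natCast_dim (T.presheaf.stalk y)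
    exact h3 ⟨m⟩ (hW m y (by rw [hm]; exact_mod_cast Nat.le_succ m))
  haveI : IsIso W'.ι := by
    haveI : Surjective W'.ι := ⟨fun z => ⟨⟨z, htop z⟩, rfl⟩⟩
    exact IsOpenImmersion.isIso _
  refine ⟨inv W'.ι ≫ g', ⟨by rw [Category.assoc, h1, IsIso.inv_hom_id_assoc], ?_⟩, fun g₂ hg₂ => ?_⟩
  · rw [← h2, ← Scheme.homOfLE_ι_assoc _ hUW', IsIso.hom_inv_id_assoc]
  · haveI : IsDominant U.ι := ⟨by rw [DenseRange, Scheme.Opens.range_ι]; exact hU⟩
    refine ext_of_isDominant_of_isSeparated pA ?_ U.ι ?_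
    · rw [hg₂.1, Category.assoc, h1, IsIso.inv_hom_id_assoc]
    · rw [hg₂.2, ← h2, ← Scheme.homOfLE_ι_assoc _ hUW', IsIso.hom_inv_id_assoc]

end Groth.Agent.AbExt
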