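import Groth.Agent.AVRat.Core

/-!
Products of smooth varieties over an algebraically closed field are integral.
-/

set_option autoImplicit false
set_option backward.isDefEq.respectTransparency false
set_option backward.isDefEq.respectTransparency.types false
set_option linter.style.haveILetI false

universe u

open CategoryTheory CategoryTheory.Limits AlgebraicGeometry MonoidalCategory CartesianMonoidalCategory

noncomputable section

namespace Groth.Agent.AbExt

variable {k : Type u} [Field k] [IsAlgClosed k]

theorem exists_point {X : Scheme.{u}} (f : X ⟶ Spec (CommRingCat.of k)) [LocallyOfFiniteType f] [Nonempty X] :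
    ∃ p : Spec (CommRingCat.of k) ⟶ X, p ≫ f = 𝟙 _ := by
  haveI : JacobsonSpace X := LocallyOfFiniteType.jacobsonSpace f
  obtain ⟨x, -, hx⟩ := nonempty_inter_closedPoints (Set.univ_nonempty (α := X)) isClosed_univ.isLocallyClosed
  exact ⟨pointOfClosedPoint f x hx, pointOfClosedPoint_comp f x hx⟩

theorem geometricallyIntegral_of_integral {X : Over (Spec (CommRingCat.of k))} [Smooth X.hom] [IsIntegral X.left] :
    GeometricallyIntegral X.hom := by
  obtain ⟨p, hp⟩ := exists_point X.hom
  haveI := Rigid.geometricallyConnected_of_section X.hom p hp
  exact ClosedRep.GeomIntegral.geometricallyIntegral_of_smooth X.hom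

theorem isIntegral_prod (C B : Over (Spec (CommRingCat.of k))) [Smooth C.hom] [IsIntegral C.left] [Smooth B.hom]
    [IsIntegral B.left] : IsIntegral (C ⊗ B).left := by
  haveI : GeometricallyIntegral C.hom := geometricallyIntegral_of_integral
  haveI : IsLocallyNoetherian B.left := LocallyOfFiniteType.isLocallyNoetherian B.hom
  haveI : IsLocallyNoetherian (pullback C.hom B.hom) :=
    LocallyOfFiniteType.isLocallyNoetherian (pullback.snd C.hom B.hom ≫ B.hom)
  show IsIntegral (pullback C.hom B.hom)
  exact GeometricallyIntegral.isIntegral_of_isLocallyNoetherian (pullback.snd C.hom B.hom)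

end Groth.Agent.AbExt
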